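import Mathlib.AlgebraicGeometry.EllipticCurve.Affine.Point
import Mathlib.RingTheory.DiscreteValuationRing.Basic
import Mathlib.RingTheory.Valuation.ValuationRing
import Mathlib.RingTheory.Filtration
import Mathlib.Algebra.Group.Subgroup.ZPowers.Basic
import Mathlib.Tactic.FieldSimp
import Mathlib.Tactic.LinearCombination

/-!
Points of a Weierstrass cubic over a discrete valuation ring all of whose coefficients lie in the
maximal ideal, in the chart `t = x / y`, `w = 1 / y` around infinity: this chart contains every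
point reducing to a nonsingular point, the group law is `t₁ + t₂` to first order, and so points of
order prime to the residue characteristic reduce to the singular point.
-/

set_option autoImplicit false
set_option maxHeartbeats 1000000

universe u v

namespace Groth.Agent.EllAddTorsLib

open IsLocalRing WeierstrassCurve Affine

variable {R : Type u} [CommRing R] [IsDomain R] [IsDiscreteValuationRing R]
variable {K : Type v} [Field K] [Algebra R K] [IsFractionRing R K]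

local notation "ι" => algebraMap R K
local notation "𝔪" => maximalIdeal R

variable (R) in
/-- The elements of `K` coming from the maximal ideal. -/
def InM (z : K) : Prop := ∃ a ∈ maximalIdeal R, algebraMap R K a = z

theorem isUnit_one_add {a : R} (ha : a ∈ 𝔪) : IsUnit (1 + a) := by
  by_contra h
  exact (maximalIdeal.isMaximal R).ne_top ((Ideal.eq_top_iff_one _).2 (by simpa using sub_mem ((mem_maximalIdeal _).2 h) ha))

theorem not_mem_of_one_add {a : R} (ha : a ∈ 𝔪) (h : 1 + a ∈ 𝔪) : False :=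
  (mem_maximalIdeal _).1 h (isUnit_one_add ha)

theorem int_or_inv (z : K) : (∃ a, ι a = z) ∨ ∃ a ∈ 𝔪, ι a = z⁻¹ := by
  by_cases h : ∃ a, ι a = z
  · exact Or.inl h
  · rcases ValuationRing.isInteger_or_isInteger R z with ⟨a, ha⟩ | ⟨a, ha⟩
    · exact absurd ⟨a, ha⟩ h
    · refine Or.inr ⟨a, (mem_maximalIdeal _).2 fun hu => h ?_, ha⟩
      obtain ⟨b, hb⟩ := hu.exists_right_inv
      refine ⟨b, ?_⟩
      have h1 : ι a * ι b = 1 := by rw [← map_mul, hb, map_one]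
      rw [ha] at h1
      have hz : z ≠ 0 := fun hz => by simp [hz] at h1
      calc ι b = z * (z⁻¹ * ι b) := by rw [← mul_assoc, mul_inv_cancel₀ hz, one_mul]
        _ = z := by rw [h1, mul_one]

theorem quad_int {a b : R} {z : K} (h : z ^ 2 + ι a * z = ι b) : ∃ c, ι c = z ∧ c ^ 2 + a * c = b := by
  have hinj : Function.Injective ι := IsFractionRing.injective R K
  rcases int_or_inv (R := R) z with ⟨c, hc⟩ | ⟨q, hq, hqz⟩
  · exact ⟨c, hc, hinj (by simp only [map_add, map_mul, map_pow, hc]; exact h)⟩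
  · by_cases hz : z = 0
    · exact ⟨0, by simp [hz], hinj (by rw [← h, hz]; simp)⟩
    · have h1 : z * ι q = 1 := by rw [hqz, mul_inv_cancel₀ hz]
      have h2 : ι (1 + a * q - b * q ^ 2) = 0 := by
        simp only [map_add, map_sub, map_mul, map_pow, map_one]
        linear_combination (ι q) ^ 2 * h - (z * ι q + 1 + ι a * ι q) * h1
      refine (not_mem_of_one_add (a := a * q - b * q ^ 2) ?_ ?_).elim
      · exact sub_mem (Ideal.mul_mem_left _ _ hq) (Ideal.mul_mem_left _ _ (Ideal.pow_mem_of_mem _ hq 2 two_pos))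
      · rw [← add_sub_assoc, hinj (h2.trans (map_zero ι).symm)]
        exact zero_mem _

theorem quad_inM {a b : R} (ha : a ∈ 𝔪) (hb : b ∈ 𝔪) {z : K} (h : z ^ 2 + ι a * z = ι b) : InM R z := by
  obtain ⟨c, hc, hc'⟩ := quad_int h
  refine ⟨c, (maximalIdeal.isMaximal R).isPrime.mem_of_pow_mem 2 ?_, hc⟩
  rw [eq_sub_of_add_eq hc']
  exact sub_mem hb (Ideal.mul_mem_right _ _ ha)

/-- All coefficients lie in the maximal ideal. -/
def AllM (V : WeierstrassCurve R) : Prop :=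
  V.a₁ ∈ maximalIdeal R ∧ V.a₂ ∈ maximalIdeal R ∧ V.a₃ ∈ maximalIdeal R ∧ V.a₄ ∈ maximalIdeal R ∧
    V.a₆ ∈ maximalIdeal R

variable {V : WeierstrassCurve R}

/-- The point `P` has coordinates `(t, w)` in the chart at infinity. -/
def Ch (P : (V.map (algebraMap R K)).toAffine.Point) (t w : R) : Prop :=
  (P = 0 ∧ t = 0 ∧ w = 0) ∨
    ∃ (x y : K) (h : (V.map (algebraMap R K)).toAffine.Nonsingular x y),
      P = Point.some x y h ∧ x * algebraMap R K w = algebraMap R K t ∧ y * algebraMap R K w = 1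

theorem Ch.zero_iff {t w : R} (h : Ch (K := K) (V := V) 0 t w) : t = 0 ∧ w = 0 := by
  rcases h with ⟨-, h⟩ | ⟨x, y, hn, h, -⟩
  · exact h
  · exact absurd h.symm (Point.some_ne_zero hn)

theorem Ch.eq_zero {P : (V.map ι).toAffine.Point} (h : Ch P 0 0) : P = 0 := by
  rcases h with ⟨h, -⟩ | ⟨x, y, hn, -, -, h⟩
  · exact h
  · simp at h

theorem chart_equation {x y : K} {t w : R} (he : (V.map ι).toAffine.Equation x y) (hx : x * ι w = ι t)
    (hy : y * ι w = 1) :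
    w + V.a₁ * t * w + V.a₃ * w ^ 2 = t ^ 3 + V.a₂ * t ^ 2 * w + V.a₄ * t * w ^ 2 + V.a₆ * w ^ 3 := by
  refine IsFractionRing.injective R K ?_
  rw [equation_iff] at he
  simp only [map_a₁, map_a₂, map_a₃, map_a₄, map_a₆] at he
  simp only [map_add, map_mul, map_pow, ← hx]
  linear_combination (ι w) ^ 3 * he -
    (ι w * (y * ι w + 1) + ι V.a₁ * x * (ι w) ^ 2 + ι V.a₃ * (ι w) ^ 2) * hy

theorem chart_or_inM (hV : AllM V) {x y : K} (h : (V.map ι).toAffine.Nonsingular x y) :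
    (∃ t w, Ch (Point.some x y h) t w) ∨ (InM R x ∧ InM R y) := by
  obtain ⟨h1, h2, h3, h4, h6⟩ := hV
  have he := h.1
  rw [equation_iff] at he
  simp only [map_a₁, map_a₂, map_a₃, map_a₄, map_a₆] at he
  have hinj : Function.Injective ι := IsFractionRing.injective R K
  rcases int_or_inv (R := R) x with ⟨a, rfl⟩ | ⟨q, hq, hqx⟩
  · have hyq : y ^ 2 + ι (V.a₁ * a + V.a₃) * y = ι (a ^ 3 + V.a₂ * a ^ 2 + V.a₄ * a + V.a₆) := by
      simp only [map_add, map_mul, map_pow]; linear_combination he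
    obtain ⟨c, hc, hc'⟩ := quad_int hyq
    by_cases ha : a ∈ 𝔪
    · refine Or.inr ⟨⟨a, ha, rfl⟩, quad_inM ?_ ?_ hyq⟩
      · exact add_mem (Ideal.mul_mem_left _ _ ha) h3
      · exact add_mem (add_mem (add_mem (Ideal.pow_mem_of_mem _ ha 3 (by norm_num)) (Ideal.mul_mem_right _ _ h2))
          (Ideal.mul_mem_right _ _ h4)) h6
    · have hcu : IsUnit c := by
        by_contra hcm
        refine ha ((maximalIdeal.isMaximal R).isPrime.mem_of_pow_mem 3 ?_)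
        have hcm' : c ∈ 𝔪 := (mem_maximalIdeal _).2 hcm
        have : a ^ 3 = c ^ 2 + (V.a₁ * a + V.a₃) * c - (V.a₂ * a ^ 2 + V.a₄ * a + V.a₆) := by
          linear_combination -hc'
        rw [this]
        exact sub_mem (add_mem (Ideal.pow_mem_of_mem _ hcm' 2 two_pos) (Ideal.mul_mem_left _ _ hcm'))
          (add_mem (add_mem (Ideal.mul_mem_right _ _ h2) (Ideal.mul_mem_right _ _ h4)) h6)
      obtain ⟨d, hd⟩ := hcu.exists_right_inv
      refine Or.inl ⟨a * d, d, Or.inr ⟨_, _, h, rfl, (map_mul _ _ _).symm, ?_⟩⟩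
      rw [← hc, ← map_mul, hd, map_one]
  · by_cases hx0 : x = 0
    · subst hx0
      have hyq : y ^ 2 + ι V.a₃ * y = ι V.a₆ := by linear_combination he
      exact Or.inr ⟨⟨0, zero_mem _, map_zero _⟩, quad_inM h3 h6 hyq⟩
    have hq1 : x * ι q = 1 := by rw [hqx, mul_inv_cancel₀ hx0]
    have hU : IsUnit (1 + (V.a₂ * q + V.a₄ * q ^ 2 + V.a₆ * q ^ 3)) :=
      isUnit_one_add (add_mem (add_mem (Ideal.mul_mem_right _ _ h2) (Ideal.mul_mem_right _ _ h4))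
        (Ideal.mul_mem_right _ _ h6))
    have key : ∀ e : R, ι e = y / x → False := by
      intro e he'
      have hy : y = ι e * x := by rw [he', div_mul_cancel₀ _ hx0]
      refine (mem_maximalIdeal _).1 ?_ hU
      have : 1 + (V.a₂ * q + V.a₄ * q ^ 2 + V.a₆ * q ^ 3) = e ^ 2 * q + V.a₁ * e * q + V.a₃ * e * q ^ 2 := by
        refine hinj ?_
        simp only [map_add, map_mul, map_pow, map_one]
        rw [hy] at he
        linear_combination (-(ι q) ^ 3) * he +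
          (ι e ^ 2 * ι q * (x * ι q + 1) + ι V.a₁ * ι e * ι q * (x * ι q + 1) + ι V.a₃ * ι e * (ι q) ^ 2
            - ((x * ι q) ^ 2 + x * ι q + 1) - ι V.a₂ * ι q * (x * ι q + 1) - ι V.a₄ * (ι q) ^ 2) * hq1
      rw [this]
      exact add_mem (add_mem (Ideal.mul_mem_left _ _ hq) (Ideal.mul_mem_left _ _ hq))
        (Ideal.mul_mem_left _ _ (Ideal.pow_mem_of_mem _ hq 2 two_pos))
    rcases int_or_inv (R := R) (y / x) with ⟨e, he'⟩ | ⟨e, -, he'⟩
    · exact (key e he').elim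
    · have hy0 : y ≠ 0 := fun hy0 => key 0 (by rw [hy0, zero_div, map_zero])
      refine Or.inl ⟨e, e * q, Or.inr ⟨_, _, h, rfl, ?_, ?_⟩⟩
      · rw [map_mul, mul_left_comm, hq1, mul_one]
      · rw [map_mul, he', hqx, inv_div, div_mul_eq_mul_div, mul_inv_cancel₀ hx0, mul_one_div, div_self hy0]

theorem w_mem (hV : AllM V) {t w : R} {r : ℕ} (ht : t ∈ 𝔪 ^ r)
    (he : w + V.a₁ * t * w + V.a₃ * w ^ 2 = t ^ 3 + V.a₂ * t ^ 2 * w + V.a₄ * t * w ^ 2 + V.a₆ * w ^ 3) :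
    w ∈ 𝔪 ^ (3 * r) := by
  obtain ⟨h1, h2, h3, h4, h6⟩ := hV
  have hu : IsUnit (1 + (V.a₁ * t + V.a₃ * w - V.a₂ * t ^ 2 - V.a₄ * t * w - V.a₆ * w ^ 2)) :=
    isUnit_one_add (sub_mem (sub_mem (sub_mem (add_mem (Ideal.mul_mem_right _ _ h1) (Ideal.mul_mem_right _ _ h3))
      (Ideal.mul_mem_right _ _ h2)) (Ideal.mul_mem_right _ _ (Ideal.mul_mem_right _ _ h4)))
      (Ideal.mul_mem_right _ _ h6))
  obtain ⟨i, hi⟩ := hu.exists_right_inv
  have : w = i * t ^ 3 := by linear_combination i * he - w * hi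
  rw [this, mul_comm 3 r, pow_mul]
  exact Ideal.mul_mem_left _ _ (Ideal.pow_mem_pow ht 3)

theorem pow_succ_le_two {r : ℕ} {a b : R} (ha : a ∈ 𝔪) (hb : b ∈ 𝔪 ^ r) : a * b ∈ 𝔪 ^ (r + 1) := by
  rw [pow_succ']
  exact Ideal.mul_mem_mul ha hb

theorem Ch.add [DecidableEq K] (hV : AllM V) {r : ℕ} {P₁ P₂ : (V.map ι).toAffine.Point} {t₁ w₁ t₂ w₂ : R}
    (h₁ : Ch P₁ t₁ w₁) (h₂ : Ch P₂ t₂ w₂) (ht₁ : t₁ ∈ 𝔪 ^ r) (ht₂ : t₂ ∈ 𝔪 ^ r) :
    ∃ t w, Ch (P₁ + P₂) t w ∧ t - (t₁ + t₂) ∈ 𝔪 ^ (r + 1) := by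
  rcases h₁ with ⟨rfl, rfl, rfl⟩ | ⟨x₁, y₁, hn₁, rfl, hx₁, hy₁⟩
  · exact ⟨t₂, w₂, by rwa [zero_add], by simp⟩
  rcases h₂ with ⟨rfl, rfl, rfl⟩ | ⟨x₂, y₂, hn₂, rfl, hx₂, hy₂⟩
  · exact ⟨t₁, w₁, by rw [add_zero]; exact Or.inr ⟨x₁, y₁, hn₁, rfl, hx₁, hy₁⟩, by simp⟩
  obtain ⟨h1, h2, h3, h4, h6⟩ := id hV
  have hinj : Function.Injective ι := IsFractionRing.injective R K
  have he₁ := chart_equation hn₁.1 hx₁ hy₁
  have he₂ := chart_equation hn₂.1 hx₂ hy₂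
  have hw₁ := w_mem hV ht₁ he₁
  have hw₂ := w_mem hV ht₂ he₂
  by_cases hxy : x₁ = x₂ ∧ y₁ = (V.map ι).toAffine.negY x₂ y₂
  · refine ⟨0, 0, Or.inl ⟨Point.add_of_Y_eq hxy.1 hxy.2, rfl, rfl⟩, ?_⟩
    have hy1' : y₁ = -y₂ - ι V.a₁ * x₂ - ι V.a₃ := by rw [hxy.2]; simp [negY]
    have hrel : t₁ * (1 + V.a₁ * t₂ + V.a₃ * w₂) = -t₂ := by
      refine hinj ?_
      simp only [map_mul, map_add, map_one, map_neg, ← hx₁, ← hx₂]
      rw [hxy.1]
      rw [hy1'] at hy₁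
      linear_combination (-(x₂ * ι w₂)) * hy₁ - (x₂ * ι w₁) * hy₂
    rw [show (0 : R) - (t₁ + t₂) = V.a₁ * (t₁ * t₂) + V.a₃ * (t₁ * w₂) by linear_combination -hrel]
    exact add_mem (pow_succ_le_two h1 (Ideal.mul_mem_right _ _ ht₁)) (pow_succ_le_two h3 (Ideal.mul_mem_right _ _ ht₁))
  -- the chord or tangent in the chart
  let U := 1 + (V.a₁ * t₁ + V.a₃ * (w₁ + w₂) - V.a₂ * t₁ ^ 2 - V.a₄ * t₁ * (w₁ + w₂)
    - V.a₆ * (w₁ ^ 2 + w₁ * w₂ + w₂ ^ 2))
  let N := t₁ ^ 2 + t₁ * t₂ + t₂ ^ 2 + V.a₂ * w₂ * (t₁ + t₂) + V.a₄ * w₂ ^ 2 - V.a₁ * w₂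
  have hU : IsUnit U := isUnit_one_add (sub_mem (sub_mem (sub_mem
    (add_mem (Ideal.mul_mem_right _ _ h1) (Ideal.mul_mem_right _ _ h3))
    (Ideal.mul_mem_right _ _ h2)) (Ideal.mul_mem_right _ _ (Ideal.mul_mem_right _ _ h4)))
    (Ideal.mul_mem_right _ _ h6))
  obtain ⟨Ui, hUi⟩ := hU.exists_right_inv
  let α := N * Ui
  have hαU : α * U = N := by simp only [α]; rw [mul_assoc, mul_comm Ui, hUi, mul_one]
  let β := w₁ - α * t₁
  have hdiff : w₁ - w₂ = α * (t₁ - t₂) := by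
    have : (w₁ - w₂) * U = (t₁ - t₂) * N := by simp only [U, N]; linear_combination he₁ - he₂
    simp only [α]
    linear_combination Ui * this - (w₁ - w₂) * hUi
  have h3r : 𝔪 ^ (3 * r) ≤ 𝔪 ^ (2 * r) := Ideal.pow_le_pow_right (by omega)
  have hr3 : 𝔪 ^ (3 * r) ≤ 𝔪 ^ r := Ideal.pow_le_pow_right (by omega)
  have hr2 : 𝔪 ^ (2 * r) ≤ 𝔪 ^ r := Ideal.pow_le_pow_right (by omega)
  have hα : α ∈ 𝔪 ^ (2 * r) := by
    refine Ideal.mul_mem_right _ _ ?_
    have hsq : ∀ {a b : R}, a ∈ 𝔪 ^ r → b ∈ 𝔪 ^ r → a * b ∈ 𝔪 ^ (2 * r) := fun ha hb => by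
      rw [two_mul, pow_add]; exact Ideal.mul_mem_mul ha hb
    refine sub_mem (add_mem (add_mem (add_mem (add_mem ?_ (hsq ht₁ ht₂)) ?_) ?_) ?_)
      (Ideal.mul_mem_left _ _ (h3r hw₂))
    · rw [sq]; exact hsq ht₁ ht₁
    · rw [sq]; exact hsq ht₂ ht₂
    · exact Ideal.mul_mem_right _ _ (Ideal.mul_mem_left _ _ (h3r hw₂))
    · exact Ideal.mul_mem_left _ _ (Ideal.pow_mem_of_mem _ (h3r hw₂) 2 two_pos)
  have hβ : β ∈ 𝔪 ^ (3 * r) := sub_mem hw₁ (by
    rw [show 3 * r = 2 * r + r by ring, pow_add]; exact Ideal.mul_mem_mul hα ht₁)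
  let A := 1 + (V.a₂ * α + V.a₄ * α ^ 2 + V.a₆ * α ^ 3)
  let B := β * (V.a₂ + 2 * V.a₄ * α + 3 * V.a₆ * α ^ 2) - α * (V.a₁ + V.a₃ * α)
  have hA : IsUnit A := isUnit_one_add (add_mem (add_mem (Ideal.mul_mem_right _ _ h2) (Ideal.mul_mem_right _ _ h4))
    (Ideal.mul_mem_right _ _ h6))
  have hB : B ∈ 𝔪 ^ (r + 1) := by
    refine sub_mem ?_ ?_
    · rw [mul_comm]
      exact pow_succ_le_two (add_mem (add_mem h2 (Ideal.mul_mem_right _ _ (Ideal.mul_mem_left _ _ h4)))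
        (Ideal.mul_mem_right _ _ (Ideal.mul_mem_left _ _ h6))) (hr3 hβ)
    · rw [mul_comm]
      exact pow_succ_le_two (add_mem h1 (Ideal.mul_mem_right _ _ h3)) (hr2 hα)
  obtain ⟨Ai, hAi⟩ := hA.exists_right_inv
  let t₃ := -(B * Ai) - t₁ - t₂
  let w₃ := α * t₃ + β
  have ht₃ : t₃ ∈ 𝔪 ^ r :=
    sub_mem (sub_mem (neg_mem (Ideal.mul_mem_right _ _ (Ideal.pow_le_pow_right (by omega) hB))) ht₁) ht₂
  have hU₃ : IsUnit (1 + (V.a₁ * t₃ + V.a₃ * w₃)) :=
    isUnit_one_add (add_mem (Ideal.mul_mem_right _ _ h1) (Ideal.mul_mem_right _ _ h3))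
  obtain ⟨i₃, hi₃⟩ := hU₃.exists_right_inv
  refine ⟨-(t₃ * i₃), -(w₃ * i₃), ?_, ?_⟩
  swap
  · have hsum : -(t₃ * i₃) - (t₁ + t₂) =
        i₃ * (B * Ai - (V.a₁ * ((t₁ + t₂) * t₃) + V.a₃ * ((t₁ + t₂) * w₃))) := by
      simp only [t₃]; linear_combination (t₁ + t₂) * hi₃
    rw [hsum]
    refine Ideal.mul_mem_left _ _ (sub_mem (Ideal.mul_mem_right _ _ hB) (add_mem
      (pow_succ_le_two h1 (Ideal.mul_mem_right _ _ (add_mem ht₁ ht₂)))
      (pow_succ_le_two h3 (Ideal.mul_mem_right _ _ (add_mem ht₁ ht₂)))))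
  -- compare with the slope of the group law
  have e1 := hn₁.1
  rw [equation_iff] at e1
  simp only [map_a₁, map_a₂, map_a₃, map_a₄, map_a₆] at e1
  have hw10 : ι w₁ ≠ 0 := fun h => by simp [h] at hy₁
  have hw20 : ι w₂ ≠ 0 := fun h => by simp [h] at hy₂
  have hl₁ : ι α * x₁ + ι β * y₁ = 1 := by
    refine mul_right_cancel₀ hw10 ?_
    simp only [β, map_sub, map_mul]
    linear_combination ι α * hx₁ + (ι w₁ - ι α * ι t₁) * hy₁
  have hl₂ : ι α * x₂ + ι β * y₂ = 1 := by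
    refine mul_right_cancel₀ hw20 ?_
    have := congrArg ι hdiff
    simp only [map_sub, map_mul] at this
    simp only [β, map_sub, map_mul]
    linear_combination ι α * hx₂ + (ι w₁ - ι α * ι t₁) * hy₂ + this
  set L := (V.map ι).toAffine.slope x₁ x₂ y₁ y₂ with hL
  have hαL : ι α + ι β * L = 0 := by
    by_cases hx : x₁ = x₂
    · have hy : y₁ ≠ (V.map ι).toAffine.negY x₂ y₂ := fun h => hxy ⟨hx, h⟩
      obtain rfl : y₁ = y₂ := Y_eq_of_Y_ne hn₁.1 hn₂.1 hx hy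
      subst hx
      obtain rfl : w₁ = w₂ := hinj (mul_left_cancel₀ (a := y₁) (fun h => by simp [h] at hy₁) (hy₁.trans hy₂.symm))
      obtain rfl : t₁ = t₂ := hinj (by rw [← hx₁, ← hx₂])
      have hψ : y₁ - (V.map ι).toAffine.negY x₁ y₁ ≠ 0 := sub_ne_zero.2 hy
      have hy0 : y₁ ≠ 0 := fun h => by simp [h] at hy₁
      have hLψ : L * (2 * y₁ + ι V.a₁ * x₁ + ι V.a₃) =
          3 * x₁ ^ 2 + 2 * ι V.a₂ * x₁ + ι V.a₄ - ι V.a₁ * y₁ := by
        rw [hL, slope_of_Y_ne rfl hy]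
        simp only [map_a₁, map_a₂, map_a₃, map_a₄, negY]
        simp only [negY, map_a₁, map_a₃] at hψ
        rw [show 2 * y₁ + ι V.a₁ * x₁ + ι V.a₃ = y₁ - (-y₁ - ι V.a₁ * x₁ - ι V.a₃) by ring, div_mul_cancel₀ _ hψ]
      have hψ' : 2 * y₁ + ι V.a₁ * x₁ + ι V.a₃ ≠ 0 := by
        simp only [negY, map_a₁, map_a₃] at hψ
        convert hψ using 1; ring
      have hw : ι w₁ = y₁⁻¹ := eq_inv_of_mul_eq_one_right hy₁
      have hUK : ι U ≠ 0 := fun h => by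
        rw [← map_zero ι] at h
        exact not_isUnit_zero (hinj h ▸ (show IsUnit U from ⟨⟨U, Ui, hUi, by rw [mul_comm, hUi]⟩, rfl⟩))
      have hU' : y₁ ^ 2 * ι U = y₁ ^ 2 + ι V.a₁ * x₁ * y₁ + 2 * ι V.a₃ * y₁ - ι V.a₂ * x₁ ^ 2 - 2 * ι V.a₄ * x₁
          - 3 * ι V.a₆ := by
        simp only [U, map_add, map_sub, map_mul, map_pow, map_one, ← hx₁, hw]
        field_simp
        ring
      have hN' : y₁ ^ 2 * ι N = 3 * x₁ ^ 2 + 2 * ι V.a₂ * x₁ + ι V.a₄ - ι V.a₁ * y₁ := by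
        simp only [N, map_add, map_sub, map_mul, map_pow, ← hx₁, hw]
        field_simp
        ring
      have hαU' : ι α * ι U = ι N := by rw [← map_mul, hαU]
      have : (ι α + ι β * L) * ((y₁ * (2 * y₁ + ι V.a₁ * x₁ + ι V.a₃)) * (y₁ ^ 2 * ι U)) = 0 := by
        linear_combination
          ((ι β * y₁) * (y₁ ^ 2 * ι U)) * hLψ +
          ((3 * x₁ ^ 2 + 2 * ι V.a₂ * x₁ + ι V.a₄ - ι V.a₁ * y₁) * (y₁ ^ 2 * ι U)) * hl₁ +
          ((3 * x₁ ^ 2 + 2 * ι V.a₂ * x₁ + ι V.a₄ - ι V.a₁ * y₁)) * hU' +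
          (y₁ ^ 2 * (y₁ * (2 * y₁ + ι V.a₁ * x₁ + ι V.a₃) -
            x₁ * (3 * x₁ ^ 2 + 2 * ι V.a₂ * x₁ + ι V.a₄ - ι V.a₁ * y₁))) * hαU' +
          (y₁ * (2 * y₁ + ι V.a₁ * x₁ + ι V.a₃) -
            x₁ * (3 * x₁ ^ 2 + 2 * ι V.a₂ * x₁ + ι V.a₄ - ι V.a₁ * y₁)) * hN' +
          (3 * (3 * x₁ ^ 2 + 2 * ι V.a₂ * x₁ + ι V.a₄ - ι V.a₁ * y₁)) * e1
      exact (mul_eq_zero.1 this).resolve_right (mul_ne_zero (mul_ne_zero hy0 hψ') (mul_ne_zero (pow_ne_zero _ hy0) hUK))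
    · have hLx : L * (x₁ - x₂) = y₁ - y₂ := by
        rw [hL, slope_of_X_ne hx, div_mul_cancel₀ _ (sub_ne_zero.2 hx)]
      have : (ι α + ι β * L) * (x₁ - x₂) = 0 := by linear_combination ι β * hLx + hl₁ - hl₂
      exact (mul_eq_zero.1 this).resolve_right (sub_ne_zero.2 hx)
  set c := y₁ - L * x₁ with hc
  have hβc : ι β * c = 1 := by rw [hc]; linear_combination hl₁ - x₁ * hαL
  have hc0 : c ≠ 0 := right_ne_zero_of_mul_eq_one hβc
  have hαc : ι α * c + L = 0 := by linear_combination c * hαL - L * hβc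
  have hline₂ : y₂ = L * x₂ + c := by linear_combination c * hl₂ - y₂ * hβc - x₂ * hαc
  -- Vieta
  set x₃ := (V.map ι).toAffine.addX x₁ x₂ L with hx₃
  set y₃ := L * x₃ + c with hy₃
  have hcub := addPolynomial_slope hn₁.1 hn₂.1 hxy
  rw [addPolynomial_eq, neg_inj, Cubic.prod_X_sub_C_eq, Cubic.toPoly_injective, ← hL, ← hx₃] at hcub
  have hcubc := congrArg Cubic.c hcub
  have hcubd := congrArg Cubic.d hcub
  simp only [map_a₁, map_a₂, map_a₃, map_a₄, map_a₆] at hcubc hcubd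
  have he2 : x₁ * x₂ + x₁ * x₃ + x₂ * x₃ = -2 * c * L - ι V.a₃ * L - ι V.a₁ * c + ι V.a₄ := by
    simp only [hc]; linear_combination -hcubc
  have he3 : x₁ * x₂ * x₃ = c ^ 2 + ι V.a₃ * c - ι V.a₆ := by
    simp only [hc]; linear_combination hcubd
  have he1 : x₁ + x₂ + x₃ = L ^ 2 + ι V.a₁ * L - ι V.a₂ := by
    simp only [hx₃, addX, map_a₁, map_a₂]; ring
  have hline₁ : y₁ = L * x₁ + c := by rw [hc]; ring
  have hAK : c ^ 3 * ι A = y₁ * y₂ * y₃ := by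
    have hα1 : ι α * c = -L := by linear_combination hαc
    have hcA : c ^ 3 * ι A = c ^ 3 + (ι V.a₂ * (ι α * c) * c ^ 2 + ι V.a₄ * (ι α * c) ^ 2 * c + ι V.a₆ * (ι α * c) ^ 3) := by
      simp only [A, map_add, map_mul, map_pow, map_one]; ring
    rw [hcA, hα1, hline₁, hline₂, hy₃]
    linear_combination -(L ^ 3) * he3 - L ^ 2 * c * he2 - L * c ^ 2 * he1
  have hBK : c ^ 3 * ι B = -(x₁ * y₂ * y₃ + x₂ * y₁ * y₃ + x₃ * y₁ * y₂) := by
    have hα1 : ι α * c = -L := by linear_combination hαc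
    have hcB : c ^ 3 * ι B = (ι β * c) * (ι V.a₂ * c ^ 2 + 2 * ι V.a₄ * (ι α * c) * c + 3 * ι V.a₆ * (ι α * c) ^ 2) -
        (ι α * c) * (ι V.a₁ * c ^ 2 + ι V.a₃ * (ι α * c) * c) := by
      simp only [B, map_add, map_sub, map_mul, map_pow, map_ofNat]; ring
    rw [hcB, hα1, hβc, hline₁, hline₂, hy₃]
    linear_combination 3 * L ^ 2 * he3 + 2 * L * c * he2 + c ^ 2 * he1
  have hA0 : ι A ≠ 0 := fun h => by
    have := congrArg ι hAi
    rw [map_mul, h, zero_mul, map_one] at this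
    exact zero_ne_one this
  have hy30 : y₃ ≠ 0 := fun h => mul_ne_zero (pow_ne_zero 3 hc0) hA0 (by rw [hAK, h, mul_zero])
  have hy10 : y₁ ≠ 0 := fun h => by simp [h] at hy₁
  have hy20 : y₂ ≠ 0 := fun h => by simp [h] at hy₂
  have hAiK : ι A * ι Ai = 1 := by rw [← map_mul, hAi, map_one]
  have hT1 : ι t₁ * y₁ = x₁ := by linear_combination (-y₁) * hx₁ + x₁ * hy₁
  have hT2 : ι t₂ * y₂ = x₂ := by linear_combination (-y₂) * hx₂ + x₂ * hy₂
  have hT3 : ι t₃ * y₃ = x₃ := by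
    refine mul_left_cancel₀ (a := c ^ 3 * ι A) (mul_ne_zero (pow_ne_zero 3 hc0) hA0) ?_
    simp only [t₃, map_sub, map_neg, map_mul]
    linear_combination (-(c ^ 3 * ι B * y₃)) * hAiK - y₃ * hBK - (ι t₁ * y₃ + ι t₂ * y₃ + x₃) * hAK
      - y₂ * y₃ * y₃ * hT1 - y₁ * y₃ * y₃ * hT2
  have hW3 : ι w₃ * y₃ = 1 := by
    simp only [w₃, map_add, map_mul]
    linear_combination ι α * hT3 + x₃ * hαL + hβc + ι β * hy₃
  have hi₃K : (1 + (ι V.a₁ * ι t₃ + ι V.a₃ * ι w₃)) * ι i₃ = 1 := by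
    simp only [← map_mul, ← map_add, ← map_one ι, hi₃]
  refine Or.inr ⟨_, _, nonsingular_add hn₁ hn₂ hxy, Point.add_some hxy, ?_, ?_⟩
  · rw [← hL, ← hx₃]
    simp only [map_neg, map_mul]
    linear_combination (ι w₃ * ι i₃) * hT3 - (ι t₃ * ι i₃) * hW3
  · rw [← hL]
    simp only [addY, negAddY, negY, map_a₁, map_a₃, map_neg, map_mul, ← hx₃]
    linear_combination hi₃K + (ι i₃) * hW3 + (ι V.a₁ * ι i₃) * ((ι t₃) * hW3 - ι w₃ * hT3) + (ι w₃ * ι i₃) * (hy₃.symm) + (ι w₃ * ι i₃) * hline₁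

/-- A point killed by an integer prime to the residue characteristic is the origin or reduces to the singular
point. -/
theorem inM_of_nsmul_eq_zero [DecidableEq K] (hV : AllM V) {n : ℕ} (hn : IsUnit (n : R)) {x y : K}
    (h : (V.map ι).toAffine.Nonsingular x y) (hP : n • Point.some x y h = 0) : InM R x ∧ InM R y := by
  refine (chart_or_inM hV h).resolve_left ?_
  rintro ⟨t, w, hch⟩
  have hr : ∀ r, t ∈ 𝔪 ^ r := fun r => by
    induction r with
    | zero => simp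
    | succ r ih =>
      have hk : ∀ k : ℕ, ∃ t' w', Ch (k • Point.some x y h) t' w' ∧ t' ∈ 𝔪 ^ r ∧ t' - k * t ∈ 𝔪 ^ (r + 1) := by
        intro k
        induction k with
        | zero => exact ⟨0, 0, Or.inl ⟨zero_nsmul _, rfl, rfl⟩, zero_mem _, by simp⟩
        | succ k hk =>
          obtain ⟨t', w', h1, h2, h3⟩ := hk
          obtain ⟨t'', w'', h4, h5⟩ := Ch.add hV h1 hch h2 ih
          refine ⟨t'', w'', by rwa [succ_nsmul], ?_, ?_⟩
          · have := add_mem (Ideal.pow_le_pow_right (show r ≤ r + 1 by omega) h5) (add_mem h2 ih)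
            rwa [sub_add_cancel] at this
          · convert add_mem h5 h3 using 1
            push_cast; ring
      obtain ⟨t', w', h1, -, h3⟩ := hk n
      rw [hP] at h1
      rw [h1.zero_iff.1, zero_sub, neg_mem_iff] at h3
      exact (Ideal.unit_mul_mem_iff_mem _ hn).1 h3
  have ht : t = 0 := by
    have := Ideal.iInf_pow_eq_bot_of_isLocalRing (I := 𝔪) (maximalIdeal.isMaximal R).ne_top
    exact (Ideal.mem_bot).1 (this ▸ Ideal.mem_iInf.2 hr)
  subst ht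
  rcases hch with ⟨h0, -⟩ | ⟨x', y', h', -, hx', hy'⟩
  · exact Point.some_ne_zero h h0
  · have hw := w_mem hV (t := 0) (r := 0) (zero_mem _) (chart_equation h'.1 hx' hy')
    have he := chart_equation h'.1 hx' hy'
    have hw0 : w * (1 + (V.a₃ * w - V.a₆ * w ^ 2)) = 0 := by linear_combination he
    have := (mul_eq_zero.1 hw0).resolve_right (isUnit_one_add (sub_mem (Ideal.mul_mem_right _ _ hV.2.2.1)
      (Ideal.mul_mem_right _ _ hV.2.2.2.2))).ne_zero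
    simp [this] at hy'

end Groth.Agent.EllAddTorsLib
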