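import Mathlib.AlgebraicGeometry.EllipticCurve.Affine.Point
import Mathlib.AlgebraicGeometry.EllipticCurve.VariableChange
import Mathlib.Tactic.FieldSimp
import Mathlib.Tactic.LinearCombination

/-!
Translation-shear changes of variables `(X, Y) ↦ (X + r, Y + s X + t)` are isomorphisms of point groups.
-/

set_option autoImplicit false

universe v

namespace Groth.Agent.EllAddTorsLib

open WeierstrassCurve Affine

variable {K : Type v} [Field K] {W' W : WeierstrassCurve K} {r s t : K}

/-- `W'` is `W` in the coordinates shifted by `(r, s, t)`. -/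
def Shift (W' W : WeierstrassCurve K) (r s t : K) : Prop := W' = VariableChange.mk 1 r s t • W

theorem Shift.equation_iff (h : Shift W' W r s t) (X Y : K) :
    W'.toAffine.Equation X Y ↔ W.toAffine.Equation (X + r) (Y + s * X + t) := by
  obtain rfl := h
  simp only [Affine.equation_iff, variableChange_def, inv_one, Units.val_one, one_pow, one_mul]
  constructor <;> intro he <;> linear_combination he

theorem Shift.nonsingular_iff (h : Shift W' W r s t) (X Y : K) :
    W'.toAffine.Nonsingular X Y ↔ W.toAffine.Nonsingular (X + r) (Y + s * X + t) := by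
  rw [Affine.nonsingular_iff', Affine.nonsingular_iff', h.equation_iff]
  obtain rfl := h
  simp only [variableChange_def, inv_one, Units.val_one, one_pow, one_mul]
  refine and_congr_right fun _ => not_iff_not.1 ?_
  simp only [not_or, not_not]
  constructor <;> rintro ⟨ha, hb⟩ <;> refine ⟨?_, ?_⟩
  · linear_combination ha - s * hb
  · linear_combination hb
  · linear_combination ha + s * hb
  · linear_combination hb

theorem Shift.negY_eq (h : Shift W' W r s t) (X Y : K) :
    W.toAffine.negY (X + r) (Y + s * X + t) = W'.toAffine.negY X Y + s * X + t := by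
  obtain rfl := h
  simp only [negY, variableChange_def, inv_one, Units.val_one, one_pow, one_mul]
  ring

theorem Shift.slope_eq [DecidableEq K] (h : Shift W' W r s t) {X₁ X₂ Y₁ Y₂ : K}
    (e₁ : W'.toAffine.Equation X₁ Y₁) (e₂ : W'.toAffine.Equation X₂ Y₂)
    (hxy : ¬(X₁ = X₂ ∧ Y₁ = W'.toAffine.negY X₂ Y₂)) :
    W.toAffine.slope (X₁ + r) (X₂ + r) (Y₁ + s * X₁ + t) (Y₂ + s * X₂ + t) =
      W'.toAffine.slope X₁ X₂ Y₁ Y₂ + s := by
  by_cases hx : X₁ = X₂
  · subst hx
    have hy : Y₁ ≠ W'.toAffine.negY X₁ Y₂ := fun e => hxy ⟨rfl, e⟩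
    have hy' : Y₁ + s * X₁ + t ≠ W.toAffine.negY (X₁ + r) (Y₂ + s * X₁ + t) := by
      rw [h.negY_eq]; exact fun e => hy (by linear_combination e)
    have hy₁ : Y₁ ≠ W'.toAffine.negY X₁ Y₁ := by
      have e : Y₁ = Y₂ := Y_eq_of_Y_ne e₁ e₂ rfl hy
      rwa [← e] at hy
    rw [slope_of_Y_ne rfl hy, slope_of_Y_ne rfl hy']
    have hd : Y₁ + s * X₁ + t - W.toAffine.negY (X₁ + r) (Y₁ + s * X₁ + t) =
        Y₁ - W'.toAffine.negY X₁ Y₁ := by rw [h.negY_eq]; ring
    rw [hd]
    have hz : Y₁ - W'.toAffine.negY X₁ Y₁ ≠ 0 := sub_ne_zero.2 hy₁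
    rw [eq_comm, div_add' _ _ _ hz, div_eq_div_iff hz hz]
    obtain rfl := h
    simp only [negY, variableChange_def, inv_one, Units.val_one, one_pow, one_mul]
    ring
  · have hx' : X₁ + r ≠ X₂ + r := fun e => hx (add_right_cancel e)
    rw [slope_of_X_ne hx, slope_of_X_ne hx', add_sub_add_right_eq_sub,
      div_add' _ _ _ (sub_ne_zero.2 hx)]
    ring

/-- The point map of a shift of coordinates. -/
def Shift.toFun (h : Shift W' W r s t) : W'.toAffine.Point → W.toAffine.Point
  | 0 => 0
  | .some X Y hn => .some (X + r) (Y + s * X + t) ((h.nonsingular_iff X Y).1 hn)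

/-- The point homomorphism of a shift of coordinates. -/
def Shift.hom [DecidableEq K] (h : Shift W' W r s t) : W'.toAffine.Point →+ W.toAffine.Point where
  toFun := h.toFun
  map_zero' := rfl
  map_add' := by
    rintro (_ | ⟨X₁, Y₁, h₁⟩) (_ | ⟨X₂, Y₂, h₂⟩)
    any_goals rfl
    by_cases hxy : X₁ = X₂ ∧ Y₁ = W'.toAffine.negY X₂ Y₂
    · rw [Point.add_of_Y_eq hxy.1 hxy.2]
      refine (Point.add_of_Y_eq ?_ ?_).symm
      · rw [hxy.1]
      · rw [hxy.1, h.negY_eq, hxy.2]
    · have hxy' : ¬(X₁ + r = X₂ + r ∧ Y₁ + s * X₁ + t = W.toAffine.negY (X₂ + r) (Y₂ + s * X₂ + t)) := by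
        rintro ⟨e1, e2⟩
        obtain rfl := add_right_cancel e1
        rw [h.negY_eq] at e2
        exact hxy ⟨rfl, by linear_combination e2⟩
      rw [Point.add_some hxy]
      show _ = Point.some _ _ _ + Point.some _ _ _
      rw [Point.add_some hxy']
      show Point.some _ _ _ = _
      simp only [Point.some.injEq, h.slope_eq h₁.1 h₂.1 hxy]
      obtain rfl := h
      simp only [addX, addY, negAddY, negY, variableChange_def, inv_one, Units.val_one, one_pow, one_mul]
      constructor <;> ring

theorem Shift.hom_injective [DecidableEq K] (h : Shift W' W r s t) : Function.Injective h.hom := by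
  rintro (_ | ⟨X₁, Y₁, h₁⟩) (_ | ⟨X₂, Y₂, h₂⟩) e
  · rfl
  · exact absurd e.symm (Point.some_ne_zero _)
  · exact absurd e (Point.some_ne_zero _)
  · obtain ⟨e1, e2⟩ := Point.some.inj (show Point.some _ _ _ = Point.some _ _ _ from e)
    obtain rfl := add_right_cancel e1
    obtain rfl : Y₁ = Y₂ := by linear_combination e2
    rfl

theorem Shift.exists_preimage [DecidableEq K] (h : Shift W' W r s t) {x y : K} (hn : W.toAffine.Nonsingular x y) :
    ∃ hn', h.hom (Point.some (x - r) (y - s * (x - r) - t) hn') = Point.some x y hn := by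
  refine ⟨(h.nonsingular_iff _ _).2 ?_, ?_⟩
  · convert hn using 1 <;> ring
  · show Point.some _ _ _ = _
    simp only [Point.some.injEq]
    exact ⟨by ring, by ring⟩

end Groth.Agent.EllAddTorsLib
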